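import Groth.Agent.AlgSpLib.FpqcMore
import Mathlib

/-!
Testing closed immersions after fpqc covering of the base.
-/

set_option autoImplicit false

universe u

open CategoryTheory Limits AlgebraicGeometry

namespace Groth.Agent.FreeAct

variable {S Y Z : Scheme.{u}} (h : Y ⟶ S) (F : Z ⟶ Y)

/-- The base change of `F` along a morphism to the base is a closed immersion. -/
def Q {T : Scheme.{u}} (p : T ⟶ S) : Prop := IsClosedImmersion (pullback.snd F (pullback.fst h p))

/-- The map of base changes. -/
noncomputable def chg {T T' : Scheme.{u}} (p : T ⟶ S) (g : T' ⟶ T) : pullback h (g ≫ p) ⟶ pullback h p :=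
  pullback.lift (pullback.fst _ _) (pullback.snd _ _ ≫ g) (by rw [pullback.condition, Category.assoc])

theorem isPullback_chg {T T' : Scheme.{u}} (p : T ⟶ S) (g : T' ⟶ T) :
    IsPullback (chg h p g) (pullback.snd h (g ≫ p)) (pullback.snd h p) g := by
  refine IsPullback.of_right ?_ (pullback.lift_snd _ _ _) (IsPullback.of_hasPullback h p)
  rw [chg, pullback.lift_fst]
  exact IsPullback.of_hasPullback h (g ≫ p)

theorem snd_chg_iff {T T' : Scheme.{u}} (p : T ⟶ S) (g : T' ⟶ T) :
    IsClosedImmersion (pullback.snd (pullback.snd F (pullback.fst h p)) (chg h p g)) ↔ Q h F (g ≫ p) := by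
  have e1 : chg h p g ≫ pullback.fst h p = pullback.fst h (g ≫ p) := pullback.lift_fst _ _ _
  have h1 := MorphismProperty.cancel_left_of_respectsIso @IsClosedImmersion
    (pullbackLeftPullbackSndIso F (pullback.fst h p) (chg h p g)).hom (pullback.snd F (chg h p g ≫ pullback.fst h p))
  rw [pullbackLeftPullbackSndIso_hom_snd] at h1
  refine h1.trans ?_
  show IsClosedImmersion (pullback.snd F (chg h p g ≫ pullback.fst h p)) ↔
    IsClosedImmersion (pullback.snd F (pullback.fst h (g ≫ p)))
  exact MorphismProperty.arrow_mk_iso_iff @IsClosedImmersion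
    (Arrow.isoMk (pullback.congrHom rfl e1) (Iso.refl _) ((pullback.lift_snd _ _ _).trans ((Category.comp_id _)).symm |>.trans (by simp)))

theorem Q_comp {T T' : Scheme.{u}} {p : T ⟶ S} (g : T' ⟶ T) (hp : Q h F p) : Q h F (g ≫ p) :=
  (snd_chg_iff h F p g).1 (MorphismProperty.pullback_snd (P := @IsClosedImmersion) _ _ hp)

theorem Q_of_cover {T : Scheme.{u}} {p : T ⟶ S} (𝒰 : T.OpenCover) (hi : ∀ i, Q h F (𝒰.f i ≫ p)) : Q h F p := by
  refine IsZariskiLocalAtTarget.of_openCover (P := @IsClosedImmersion) (𝒰.pullback₁ (pullback.snd h p)) fun i => ?_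
  show IsClosedImmersion (pullback.snd (pullback.snd F (pullback.fst h p)) (pullback.fst (pullback.snd h p) (𝒰.f i)))
  let k := (isPullback_chg h p (𝒰.f i)).isoPullback
  have hk : k.hom ≫ pullback.fst (pullback.snd h p) (𝒰.f i) = chg h p (𝒰.f i) :=
    (isPullback_chg h p (𝒰.f i)).isoPullback_hom_fst
  have h1 : IsClosedImmersion (pullback.snd (pullback.snd F (pullback.fst h p))
      (k.hom ≫ pullback.fst (pullback.snd h p) (𝒰.f i))) := by
    rw [hk]
    exact (snd_chg_iff h F p (𝒰.f i)).2 (hi i)
  have h2 := MorphismProperty.cancel_left_of_respectsIso @IsClosedImmersion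
    (pullbackLeftPullbackSndIso (pullback.snd F (pullback.fst h p)) (pullback.fst (pullback.snd h p) (𝒰.f i)) k.hom).inv
    (pullback.snd (pullback.snd (pullback.snd F (pullback.fst h p)) (pullback.fst (pullback.snd h p) (𝒰.f i))) k.hom)
  rw [pullbackLeftPullbackSndIso_inv_snd_snd] at h2
  replace h1 := h2.1 h1
  exact (MorphismProperty.arrow_mk_iso_iff @IsClosedImmersion
    (Arrow.isoMk (asIso (pullback.fst (pullback.snd (pullback.snd F (pullback.fst h p))
      (pullback.fst (pullback.snd h p) (𝒰.f i))) k.hom)) k (pullback.condition.trans rfl))).1 h1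

theorem Q_of_descent {T T' : Scheme.{u}} {p : T ⟶ S} (g : T' ⟶ T) [Flat g] [Surjective g] [QuasiCompact g]
    (hg : Q h F (g ≫ p)) : Q h F p := by
  have hq : (@Surjective ⊓ @Flat ⊓ @QuasiCompact : MorphismProperty Scheme.{u}) (chg h p g) :=
    MorphismProperty.of_isPullback (isPullback_chg h p g).flip ⟨⟨inferInstance, inferInstance⟩, inferInstance⟩
  exact MorphismProperty.of_pullback_snd_of_descendsAlong (P := @IsClosedImmersion)
    (Q := @Surjective ⊓ @Flat ⊓ @QuasiCompact) hq ((snd_chg_iff h F p g).2 hg)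

theorem isClosedImmersion_of_Q (hq : Q h F (𝟙 S)) : IsClosedImmersion F := by
  let e := asIso (pullback.fst h (𝟙 S))
  have h1 : IsClosedImmersion (pullback.snd F e.hom) := hq
  exact (MorphismProperty.arrow_mk_iso_iff @IsClosedImmersion
    (Arrow.isoMk (asIso (pullback.fst F e.hom)) e pullback.condition)).1 h1

end Groth.Agent.FreeAct
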