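import Groth.Agent.FreeActLib.Algebra
import Groth.Agent.FreeActLib.Local
import Groth.Agent.GrpShear
import Groth.Agent.TorusFieldLib.Scheme
import Groth.Prelude.Def_ActBC
import Groth.Prelude.Def_CoactBr
import Groth.Prelude.Def_TwC
import Groth.Prelude.Def_SGA3x

/-!
Free actions of groups of multiplicative type on affine schemes have closed graph.
-/

set_option autoImplicit false

noncomputable section

universe u

open CategoryTheory CategoryTheory.Limits MonoidalCategory CartesianMonoidalCategory AlgebraicGeometry CoactBr WithConv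
open scoped MonObj TensorProduct

namespace Groth.Agent.FreeAct

attribute [local instance] CoactBr.braidedAlgSpecOf

/-- Pairing of algebra maps. -/
abbrev pr {R : Type u} [CommRing R] {A C K : Type u} [CommRing A] [Algebra R A] [CommRing C] [Algebra R C]
    [CommRing K] [Algebra R K] (g : A →ₐ[R] K) (x : C →ₐ[R] K) : A ⊗[R] C →ₐ[R] K :=
  Algebra.TensorProduct.lift g x fun _ _ => Commute.all _ _

theorem pr_left {R : Type u} [CommRing R] {A C K : Type u} [CommRing A] [Algebra R A] [CommRing C] [Algebra R C]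
    [CommRing K] [Algebra R K] (g : A →ₐ[R] K) (x : C →ₐ[R] K) :
    (pr g x).comp Algebra.TensorProduct.includeLeft = g :=
  AlgHom.ext fun a => by simp [pr]

theorem pr_right {R : Type u} [CommRing R] {A C K : Type u} [CommRing A] [Algebra R A] [CommRing C] [Algebra R C]
    [CommRing K] [Algebra R K] (g : A →ₐ[R] K) (x : C →ₐ[R] K) :
    (pr g x).comp Algebra.TensorProduct.includeRight = x :=
  AlgHom.ext fun a => by simp [pr]

theorem pr_assoc {R : Type u} [CommRing R] {D B : Type u} [CommRing D] [Bialgebra R D] [CommRing B] [Algebra R B]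
    (z : D ⊗[R] B) :
    pr ((pr (Algebra.TensorProduct.includeLeft : D →ₐ[R] D ⊗[R] (D ⊗[R] B))
      ((Algebra.TensorProduct.includeRight : D ⊗[R] B →ₐ[R] D ⊗[R] (D ⊗[R] B)).comp
        Algebra.TensorProduct.includeLeft)).comp (Bialgebra.comulAlgHom R D))
      ((Algebra.TensorProduct.includeRight : D ⊗[R] B →ₐ[R] D ⊗[R] (D ⊗[R] B)).comp
        Algebra.TensorProduct.includeRight) z =
      TensorProduct.assoc R D D B (LinearMap.rTensor B (CoalgebraStruct.comul (R := R)) z) := by
  induction z using TensorProduct.induction_on with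
  | zero => simp
  | add x y hx hy => simp only [map_add, hx, hy]
  | tmul x y =>
    rw [Algebra.TensorProduct.lift_tmul, LinearMap.rTensor_tmul, AlgHom.comp_apply, Bialgebra.comulAlgHom_apply]
    generalize CoalgebraStruct.comul (R := R) x = z
    induction z using TensorProduct.induction_on with
    | zero => simp
    | add p r hp hr => simp only [map_add, add_mul, TensorProduct.add_tmul, hp, hr]
    | tmul p r => simp [pr]

theorem isClosedImmersion_left_cancel {S : Scheme.{u}} {A B C D : Over S} (e : A ≅ B) (f : B ⟶ C) (e' : C ≅ D)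
    (h : IsClosedImmersion f.left) : IsClosedImmersion (e.hom ≫ f ≫ e'.hom).left := by
  haveI := h
  haveI : IsIso e.hom.left := inferInstanceAs (IsIso ((Over.forget S).mapIso e).hom)
  haveI : IsIso e'.hom.left := inferInstanceAs (IsIso ((Over.forget S).mapIso e').hom)
  rw [Over.comp_left, Over.comp_left]
  infer_instance

set_option synthInstance.maxHeartbeats 400000 in
set_option maxHeartbeats 1000000 in
/-- The affine split case. -/
theorem isClosedImmersion_graph_affine {R : Type u} [CommRing R] {M : Type} [AddCommGroup M]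
    {G X : Over (Spec (CommRingCat.of R))} [GrpObj G] (w : sp R (DA R M) ≅ G) [IsMonHom w.hom] [IsAffine X.left]
    (a : AlgGrp.Action G X)
    (hfree : ∀ (Y : Over (Spec (CommRingCat.of R))) (g : Y ⟶ G) (x : Y ⟶ X), lift g x ≫ a.act = x → g = 1) :
    IsClosedImmersion (lift a.act (snd G X)).left := by
  obtain ⟨φ, hφ⟩ := Spec.map_surjective (X.left.isoSpec.inv ≫ X.hom)
  let B : Type u := Γ(X.left, ⊤)
  letI : Algebra R B := φ.hom.toAlgebra
  let v : sp R B ≅ X := Over.isoMk X.left.isoSpec.symm (by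
    show X.left.isoSpec.inv ≫ X.hom = Spec.map (CommRingCat.ofHom φ.hom)
    rw [← hφ]
    rfl)
  let act'' : sp R (DA R M) ⊗ sp R B ⟶ sp R B :=
    lift (fst _ _ ≫ w.hom) (snd _ _ ≫ v.hom) ≫ a.act ≫ v.inv
  have hact : ∀ {T : Over (Spec (CommRingCat.of R))} (g : T ⟶ sp R (DA R M)) (x : T ⟶ sp R B),
      lift g x ≫ act'' = lift (g ≫ w.hom) (x ≫ v.hom) ≫ a.act ≫ v.inv := fun g x => by
    simp [act'', comp_lift_assoc]
  have hmul : ∀ {T : Over (Spec (CommRingCat.of R))} (g g' : T ⟶ sp R (DA R M)) (x : T ⟶ sp R B),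
      lift (g * g') x ≫ act'' = lift g (lift g' x ≫ act'') ≫ act'' := fun g g' x => by
    rw [hact, hact, hact, MonObj.mul_comp, ← Category.assoc (lift _ (x ≫ v.hom)) a.act, GrpShear.lift_mul_act]
    simp
  have hone : ∀ {T : Over (Spec (CommRingCat.of R))} (x : T ⟶ sp R B),
      lift (1 : T ⟶ sp R (DA R M)) x ≫ act'' = x := fun x => by
    rw [hact, MonObj.one_comp, ← Category.assoc, GrpShear.lift_one_act, Category.assoc, v.hom_inv_id,
      Category.comp_id]
  let iL : DA R M →ₐ[R] DA R M ⊗[R] B := Algebra.TensorProduct.includeLeft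
  let iR : B →ₐ[R] DA R M ⊗[R] B := Algebra.TensorProduct.includeRight
  let U : sp R (DA R M ⊗[R] B) ⟶ sp R (DA R M) ⊗ sp R B := lift (pt iL) (pt iR)
  obtain ⟨ρ, hρ⟩ : ∃ ρ : B →ₐ[R] DA R M ⊗[R] B, U ≫ act'' = pt ρ := DiagRep.exists_pt _
  have hpt : ∀ {K : Type u} [CommRing K] [Algebra R K] (g : DA R M →ₐ[R] K) (x : B →ₐ[R] K),
      lift (pt g) (pt x) ≫ act'' = pt ((pr g x).comp ρ) := by
    intro K _ _ g x
    have e : pt (pr g x) ≫ U = lift (pt g) (pt x) := by
      simp only [U, iL, iR, comp_lift]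
      rw [← pt_comp, ← pt_comp, pr_left, pr_right]
    rw [pt_comp, ← hρ, ← Category.assoc (pt _) U act'', e]
  have hA : IsAct ρ := by
    refine ⟨fun b => ?_, fun b => ?_⟩
    · let g₁ : DA R M →ₐ[R] DA R M ⊗[R] (DA R M ⊗[R] B) := Algebra.TensorProduct.includeLeft
      let j : DA R M ⊗[R] B →ₐ[R] DA R M ⊗[R] (DA R M ⊗[R] B) := Algebra.TensorProduct.includeRight
      have h1 := hmul (pt (K := DA R M ⊗[R] (DA R M ⊗[R] B)) g₁) (pt (K := DA R M ⊗[R] (DA R M ⊗[R] B)) (j.comp iL))
        (pt (K := DA R M ⊗[R] (DA R M ⊗[R] B)) (j.comp iR))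
      rw [pt_mul_pt, hpt, hpt, hpt] at h1
      have h2 := DFunLike.congr_fun (pt_injective h1) b
      rw [AlgHom.comp_apply, AlgHom.comp_apply] at h2
      have e1 : pr (K := DA R M ⊗[R] (DA R M ⊗[R] B)) (j.comp iL) (j.comp iR) = j :=
        Algebra.TensorProduct.ext (AlgHom.ext fun a => by simp [pr, iL]) (AlgHom.ext fun a => by simp [pr, iR])
      rw [e1] at h2
      have eL : ∀ z, pr (K := DA R M ⊗[R] (DA R M ⊗[R] B)) g₁ (j.comp ρ) z =
          LinearMap.lTensor (DA R M) ρ.toLinearMap z := fun z => by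
        induction z using TensorProduct.induction_on with
        | zero => simp
        | add x y hx hy => simp only [map_add, hx, hy]
        | tmul x y => simp [g₁, j]
      rw [← eL, ← pr_assoc]
      exact h2.symm
    · have h1 := hone (pt (AlgHom.id R B))
      rw [one_eq_pt, hpt] at h1
      have h2 := DFunLike.congr_fun (pt_injective h1) b
      rw [AlgHom.comp_apply] at h2
      have e : ∀ z, Algebra.TensorProduct.lift ((Algebra.ofId R B).comp (Bialgebra.counitAlgHom R (DA R M)))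
          (AlgHom.id R B) (fun _ _ => Commute.all _ _) z =
          TensorProduct.lid R B (LinearMap.rTensor B (CoalgebraStruct.counit (R := R)) z) := fun z => by
        induction z using TensorProduct.induction_on with
        | zero => simp
        | add x y hx hy => simp only [map_add, hx, hy]
        | tmul x y => simp [Algebra.smul_def]
      rw [← e]
      exact h2
  have hF : IsFree ρ := by
    intro T _ _ g x h
    apply pt_injective
    rw [← one_eq_pt]
    have h1 : lift (pt g ≫ w.hom) (pt x ≫ v.hom) ≫ a.act = pt x ≫ v.hom := by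
      rw [← cancel_mono v.inv, Category.assoc, ← hact, hpt, h, Category.assoc, v.hom_inv_id, Category.comp_id]
    have h2 := hfree _ _ _ h1
    rw [← MonObj.one_comp w.hom] at h2
    exact (cancel_mono w.hom).1 h2
  -- the graph
  have hU : ∀ (A A' : Type u) [CommRing A] [Algebra R A] [CommRing A'] [Algebra R A'],
      IsIso (lift (pt (Algebra.TensorProduct.includeLeft : A →ₐ[R] A ⊗[R] A'))
        (pt (Algebra.TensorProduct.includeRight : A' →ₐ[R] A ⊗[R] A'))) := by
    intro A A' _ _ _ _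
    have h := lift_pt_pt (Algebra.TensorProduct.includeLeft : A →ₐ[R] A ⊗[R] A')
      (Algebra.TensorProduct.includeRight : A' →ₐ[R] A ⊗[R] A')
    rw [Algebra.TensorProduct.lift_includeLeft_includeRight, pt_id] at h
    have hm := (Functor.Monoidal.μIso (algSpec (CommRingCat.of R)) (Opposite.op (CommAlgCat.of R A))
        (Opposite.op (CommAlgCat.of R A'))).isIso_hom
    have hc : IsIso (lift (pt (Algebra.TensorProduct.includeLeft : A →ₐ[R] A ⊗[R] A'))
        (pt (Algebra.TensorProduct.includeRight : A' →ₐ[R] A ⊗[R] A')) ≫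
        Functor.LaxMonoidal.μ (algSpec (CommRingCat.of R)) (Opposite.op (CommAlgCat.of R A))
          (Opposite.op (CommAlgCat.of R A'))) := by
      rw [h]
      exact IsIso.id _
    exact @IsIso.of_isIso_comp_right _ _ _ _ _ _ _ hm hc
  haveI := hU (DA R M) B
  haveI := hU B B
  let U₂ := lift (pt (Algebra.TensorProduct.includeLeft : B →ₐ[R] B ⊗[R] B))
    (pt (Algebra.TensorProduct.includeRight : B →ₐ[R] B ⊗[R] B))
  haveI : IsIso (lift (fst (sp R (DA R M)) (sp R B) ≫ w.hom) (snd _ _ ≫ v.hom)) := by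
    rw [show lift (fst (sp R (DA R M)) (sp R B) ≫ w.hom) (snd _ _ ≫ v.hom) = (MonoidalCategory.tensorIso w v).hom from by
      ext <;> simp]
    infer_instance
  haveI : IsIso (lift (fst (sp R B) (sp R B) ≫ v.hom) (snd _ _ ≫ v.hom)) := by
    rw [show lift (fst (sp R B) (sp R B) ≫ v.hom) (snd _ _ ≫ v.hom) = (MonoidalCategory.tensorIso v v).hom from by
      ext <;> simp]
    infer_instance
  let π := pr ρ iR
  have hfac : lift a.act (snd G X) = ((asIso (U ≫ lift (fst _ _ ≫ w.hom) (snd _ _ ≫ v.hom))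
      ≪≫ Iso.refl _).symm).hom ≫ pt π ≫ (asIso (U₂ ≫ lift (fst _ _ ≫ v.hom) (snd _ _ ≫ v.hom))).hom := by
    rw [Iso.trans_refl, Iso.symm_hom, asIso_inv, IsIso.eq_inv_comp, asIso_hom, Category.assoc]
    simp only [U, U₂, comp_lift, comp_lift_assoc, lift_fst_assoc, lift_snd_assoc, lift_snd, ← pt_comp]
    congr 1
    · rw [← cancel_mono v.inv, Category.assoc, ← hact, hρ, Category.assoc, Category.assoc, v.hom_inv_id,
        Category.comp_id, ← pt_comp, pr_left]
    · simp only [π, iR]
      rw [← Category.assoc, ← pt_comp, pr_right]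
  rw [hfac]
  refine isClosedImmersion_left_cancel _ _ _ ?_
  rw [pt_left]
  exact IsClosedImmersion.spec_of_surjective _ (hA.surjective_graph hF)

variable {S : Scheme.{u}}

theorem Q_of_bc {G X : Over S} [GrpObj G] (a : AlgGrp.Action G X) {T : Scheme.{u}} (p : T ⟶ S)
    (h : IsClosedImmersion (lift (a.bc p).act (snd (Red.bc p G) (Red.bc p X))).left) :
    Q (X ⊗ X).hom (lift a.act (snd G X)).left p := by
  let Φ := lift a.act (snd G X)
  let F := Over.pullback p
  have e : F.map Φ = (Functor.Monoidal.μIso F G X).symm.hom ≫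
      lift (a.bc p).act (snd (Red.bc p G) (Red.bc p X)) ≫ (Functor.Monoidal.μIso F X X).hom := by
    rw [Iso.symm_hom, ← Category.assoc, ← Iso.comp_inv_eq]
    rw [← cancel_epi (Functor.Monoidal.μIso F G X).hom]
    rw [Iso.hom_inv_id_assoc, ← Category.assoc, Iso.comp_inv_eq]
    show Functor.LaxMonoidal.μ F G X ≫ F.map Φ = lift _ _ ≫ Functor.LaxMonoidal.μ F X X
    rw [AlgGrp.Action.bc_act, ← Functor.Monoidal.μ_snd F G X, ← comp_lift, Category.assoc, Functor.Monoidal.lift_μ]
  have h1 : IsClosedImmersion (F.map Φ).left := by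
    rw [e]
    exact isClosedImmersion_left_cancel _ _ _ h
  let m := (F.map Φ).left
  have sq : IsPullback (pullback.fst (G ⊗ X).hom p) m Φ.left (pullback.fst (X ⊗ X).hom p) := by
    refine IsPullback.of_bot ?_ (pullback.lift_fst _ _ _).symm (IsPullback.of_hasPullback (X ⊗ X).hom p)
    rw [Over.w, show m ≫ pullback.snd (X ⊗ X).hom p = pullback.snd (G ⊗ X).hom p from pullback.lift_snd _ _ _]
    exact IsPullback.of_hasPullback _ _
  show IsClosedImmersion (pullback.snd Φ.left (pullback.fst (X ⊗ X).hom p))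
  rw [← sq.isoPullback_inv_snd]
  exact MorphismProperty.comp_mem _ _ _ inferInstance h1

theorem free_bc {G X : Over S} [GrpObj G] (a : AlgGrp.Action G X)
    (hfree : ∀ (Y : Over S) (g : Y ⟶ G) (x : Y ⟶ X), lift g x ≫ a.act = x → g = 1)
    {T : Scheme.{u}} (p : T ⟶ S) (Y : Over T) (g : Y ⟶ Red.bc p G) (x : Y ⟶ Red.bc p X)
    (h : lift g x ≫ (a.bc p).act = x) : g = 1 := by
  obtain ⟨g₀, rfl⟩ := ((Over.mapPullbackAdj p).homEquiv Y G).surjective g
  obtain ⟨x₀, rfl⟩ := ((Over.mapPullbackAdj p).homEquiv Y X).surjective x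
  rw [AlgGrp.Action.lift_homEquiv_bc_act] at h
  have h1 := hfree _ g₀ x₀ (((Over.mapPullbackAdj p).homEquiv Y X).injective h)
  have h2 := AlgGrp.Action.homEquiv_mul p (1 : (Over.map p).obj Y ⟶ G) 1
  rw [mul_one] at h2
  rw [h1]
  exact mul_eq_left.1 h2.symm

/-- The graph of a free action of a group of multiplicative type on an affine scheme is a closed immersion. -/
theorem isClosedImmersion_graph {G X : Over S} [GrpObj G]
    (hG : TwC.Locally S TwC.Topology.fpqc (fun S' f => ∃ (M : Type) (_ : AddCommGroup M),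
      Nonempty (Grp.mk (Red.bc f G) ≅ Grp.mk (Red.DS S' M))))
    (hX : IsAffineHom X.hom) (a : AlgGrp.Action G X)
    (hfree : ∀ (Y : Over S) (g : Y ⟶ G) (x : Y ⟶ X), lift g x ≫ a.act = x → g = 1) :
    IsClosedImmersion (lift a.act (snd G X)).left := by
  obtain ⟨S', f, hflat, hsurj, hcov, hloc⟩ := hG
  refine isClosedImmersion_of_Q (X ⊗ X).hom _
    (Q_of_cover _ _ (S.openCoverOfIsOpenCover (fun V : S.affineOpens => (V : S.Opens))
      (iSup_affineOpens_eq_top S)) fun (V : S.affineOpens) => ?_)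
  obtain ⟨W, hW, hWV⟩ := hcov V V.2
  have hle : W ≤ f ⁻¹ᵁ (V : S.Opens) := fun x hx => by
    show f.base x ∈ ((V : S.Opens) : Set S)
    rw [← hWV]
    exact ⟨x, hx, rfl⟩
  let g : (W : Scheme.{u}) ⟶ (V : S.Opens) := f.resLE V W hle
  haveI : Flat g := by
    haveI : Flat (g ≫ (V : S.Opens).ι) := by
      rw [Scheme.Hom.resLE_comp_ι]; infer_instance
    exact MorphismProperty.of_postcomp (W' := @IsOpenImmersion) @Flat g (V : S.Opens).ι inferInstance inferInstance
  haveI : Surjective g := ⟨fun v => by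
    have hv : v.1 ∈ f.base '' (W : Set S') := by rw [hWV]; exact v.2
    obtain ⟨x, hx, hxv⟩ := hv
    refine ⟨⟨x, hx⟩, Subtype.ext ?_⟩
    have := congrArg (fun m : (W : Scheme.{u}) ⟶ S => m.base ⟨x, hx⟩) (f.resLE_comp_ι hle)
    exact this.trans hxv⟩
  haveI : CompactSpace (W : Scheme.{u}) := isCompact_iff_compactSpace.1 hW
  haveI : IsAffine (V : S.Opens) := V.2
  haveI : QuasiCompact g := quasiCompact_iff_compactSpace g |>.2 inferInstance
  show Q (X ⊗ X).hom (lift a.act (snd G X)).left ((𝟙 (V : Scheme.{u}) ≫ (V : S.Opens).ι) ≫ 𝟙 S)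
  rw [Category.id_comp, Category.comp_id]
  refine Q_of_descent _ _ g ?_
  choose U hxU M _ hiso using fun x : (W : Scheme.{u}) => hloc x.1
  have hex : ∀ x : (W : Scheme.{u}), ∃ T : (W : Scheme.{u}).Opens, IsAffineOpen T ∧ x ∈ T ∧ T ≤ W.ι ⁻¹ᵁ U x := fun x =>
    exists_isAffineOpen_mem_and_subset (X := (W : Scheme.{u})) (hxU x)
  choose T hTaff hxT hTU using hex
  refine Q_of_cover _ _ ((W : Scheme.{u}).openCoverOfIsOpenCover T (TopologicalSpace.Opens.ext
    (Set.eq_univ_of_forall fun y => by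
      simp only [TopologicalSpace.Opens.coe_iSup, Set.mem_iUnion]
      exact ⟨y, hxT y⟩))) fun (x : (W : Scheme.{u})) => ?_
  -- an affine piece
  haveI : IsAffine (T x : Scheme.{u}) := hTaff x
  let R : Type u := Γ((T x : Scheme.{u}), ⊤)
  let i : Spec (CommRingCat.of R) ⟶ (T x : Scheme.{u}) := (T x : Scheme.{u}).isoSpec.inv
  suffices hq : Q (X ⊗ X).hom (lift a.act (snd G X)).left (i ≫ (T x).ι ≫ g ≫ (V : S.Opens).ι) by
    refine Q_of_cover _ _ (Scheme.coverOfIsIso.{0} i) fun _ => ?_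
    exact hq
  obtain ⟨e⟩ := hiso x
  let j : Spec (CommRingCat.of R) ⟶ (U x : Scheme.{u}) := i ≫ W.ι.resLE (U x) (T x) (hTU x)
  have hp : j ≫ (U x).ι ≫ f = i ≫ (T x).ι ≫ g ≫ (V : S.Opens).ι := by
    simp only [j, g, Category.assoc, Scheme.Hom.resLE_comp_ι, Scheme.Hom.resLE_comp_ι_assoc]
  rw [← hp]
  -- splitting
  obtain ⟨w₀, hw₀, -⟩ := TorusField.exists_DS_iso R (M x)
  let e₁ : Red.bc ((U x).ι ≫ f) G ≅ Red.DS (U x : Scheme.{u}) (M x) := (Grp.forget _).mapIso e
  haveI : IsMonHom e₁.inv := e.inv.hom.isMonHom_hom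
  let e₂ : Red.bc (j ≫ (U x).ι ≫ f) G ≅ Red.bc j (Red.bc ((U x).ι ≫ f) G) := (ActBC.bcCompIso j _ G rfl).symm
  let c : Red.bc j (Red.DS (U x : Scheme.{u}) (M x)) ≅ Red.DS (Spec (CommRingCat.of R)) (M x) :=
    ActBC.bcCompIso j _ _ (specULiftZIsTerminal.hom_ext _ _)
  haveI : IsMonHom c.hom := ActBC.bcCompIso_isMonHom _ _ _
  haveI : IsMonHom (ActBC.bcCompIso j ((U x).ι ≫ f) G rfl).hom := ActBC.bcCompIso_isMonHom _ _ _
  haveI : IsMonHom e₂.inv := ActBC.bcCompIso_isMonHom _ _ _
  haveI hm : IsMonHom (M := Red.bc j (Red.DS (U x : Scheme.{u}) (M x))) (N := Red.bc j (Red.bc ((U x).ι ≫ f) G))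
      ((Over.pullback j).map e₁.inv) :=
    @Functor.map.instIsMonHom _ _ _ _ _ _ (Over.pullback j) _ _ _ _ _ e₁.inv _
  haveI : IsMonHom c.inv := inferInstance
  let w : sp R (DA R (M x)) ≅ Red.bc (j ≫ (U x).ι ≫ f) G :=
    w₀ ≪≫ c.symm ≪≫ ((Over.pullback j).mapIso e₁).symm ≪≫ e₂.symm
  haveI : IsMonHom w.hom := by
    show IsMonHom (w₀.hom ≫ c.inv ≫ (Over.pullback j).map e₁.inv ≫ e₂.inv)
    infer_instance
  haveI : IsAffine (Red.bc (j ≫ (U x).ι ≫ f) X).left := by
    haveI := hX
    show IsAffine (pullback X.hom (j ≫ (U x).ι ≫ f))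
    exact isAffine_of_isAffineHom (pullback.snd X.hom (j ≫ (U x).ι ≫ f))
  exact Q_of_bc a _ (isClosedImmersion_graph_affine w (a.bc _) (free_bc a hfree _))

theorem isClosedImmersion_orbitMap {G X : Over S} [GrpObj G] (hX : IsAffineHom X.hom) (a : AlgGrp.Action G X)
    (h : IsClosedImmersion (lift a.act (snd G X)).left) (σ : 𝟙_ (Over S) ⟶ X) :
    IsClosedImmersion (a.orbitMap σ).left := by
  haveI := hX
  haveI : IsSeparated X.hom := inferInstance
  haveI := h
  let c : G ⟶ G ⊗ X := lift (𝟙 G) (toUnit G ≫ σ)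
  let d : X ⟶ X ⊗ X := lift (𝟙 X) (toUnit X ≫ σ)
  have hsec : ∀ (Y : Over S), IsClosedImmersion (lift (𝟙 Y) (toUnit Y ≫ σ)).left := fun Y => by
    have h1 : (lift (𝟙 Y) (toUnit Y ≫ σ)).left ≫ (fst Y X).left = 𝟙 _ := by
      rw [← Over.comp_left, lift_fst]; rfl
    haveI : IsSeparated (fst Y X).left := by
      show IsSeparated (pullback.fst Y.hom X.hom)
      infer_instance
    haveI : IsClosedImmersion ((lift (𝟙 Y) (toUnit Y ≫ σ)).left ≫ (fst Y X).left) := by rw [h1]; infer_instance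
    exact IsClosedImmersion.of_comp _ (fst Y X).left
  haveI : IsClosedImmersion c.left := hsec G
  haveI : IsClosedImmersion d.left := hsec X
  have e : c ≫ lift a.act (snd G X) = a.orbitMap σ ≫ d := by
    simp only [c, d, AlgGrp.Action.orbitMap, comp_lift, lift_snd, Category.comp_id]
    congr 1
    rw [← Category.assoc, Subsingleton.elim ((lift (𝟙 G) (toUnit G ≫ σ) ≫ a.act) ≫ toUnit X) (toUnit G)]
  haveI : IsClosedImmersion ((a.orbitMap σ).left ≫ d.left) := by
    rw [← Over.comp_left, ← e, Over.comp_left]; infer_instance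
  exact IsClosedImmersion.of_comp _ d.left

end Groth.Agent.FreeAct
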