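import Mathlib

/-!
Free actions of diagonalisable groups on affine schemes: the graph map is surjective on rings.
-/

set_option autoImplicit false

noncomputable section

universe u

open TensorProduct MonoidAlgebra

namespace Groth.Agent.FreeAct

variable {R : Type u} [CommRing R] {B : Type u} [CommRing B] [Algebra R B] {M : Type} [AddCommGroup M]

/-- The group algebra. -/
abbrev DA (R : Type u) [CommRing R] (M : Type) [AddCommGroup M] : Type u := MonoidAlgebra R (Multiplicative M)

/-- The basis of characters. -/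
def bas (R : Type u) [CommRing R] (M : Type) [AddCommGroup M] : Module.Basis (Multiplicative M) R (DA R M) :=
  MonoidAlgebra.basis (Multiplicative M) R

theorem bas_apply (m : Multiplicative M) : bas R M m = MonoidAlgebra.single m 1 := by simp [bas]

/-- The point sending a character to an element of a group of units. -/
def chr (T : Type u) [CommRing T] [Algebra R T] (χ : Multiplicative M →* T) : DA R M →ₐ[R] T :=
  MonoidAlgebra.lift R T (Multiplicative M) χ

theorem chr_bas (T : Type u) [CommRing T] [Algebra R T] (χ : Multiplicative M →* T) (m : Multiplicative M) :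
    chr (R := R) T χ (bas R M m) = χ m := by simp [chr, bas_apply]

variable (ρ : B →ₐ[R] DA R M ⊗[R] B)

/-- The coefficient of weight `m`. -/
def co (m : Multiplicative M) : B →ₗ[R] B :=
  (TensorProduct.lid R B).toLinearMap ∘ₗ LinearMap.rTensor B ((bas R M).coord m) ∘ₗ ρ.toLinearMap

theorem co_apply (m : Multiplicative M) (b : B) :
    co ρ m b = TensorProduct.lid R B (LinearMap.rTensor B ((bas R M).coord m) (ρ b)) := rfl

/-- The axioms of an action. -/
structure IsAct : Prop where
  assoc : ∀ b, LinearMap.lTensor (DA R M) ρ.toLinearMap (ρ b) =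
    TensorProduct.assoc R (DA R M) (DA R M) B (LinearMap.rTensor B (CoalgebraStruct.comul (R := R)) (ρ b))
  unit : ∀ b, TensorProduct.lid R B (LinearMap.rTensor B (CoalgebraStruct.counit (R := R)) (ρ b)) = b

/-- The action is free. -/
def IsFree : Prop :=
  ∀ (T : Type u) [CommRing T] [Algebra R T] (g : DA R M →ₐ[R] T) (x : B →ₐ[R] T),
    (Algebra.TensorProduct.lift g x fun _ _ => Commute.all _ _).comp ρ = x →
      g = (Algebra.ofId R T).comp (Bialgebra.counitAlgHom R (DA R M))

variable {ρ}

theorem IsAct.rho_co (h : IsAct ρ) (m : Multiplicative M) (b : B) : ρ (co ρ m b) = bas R M m ⊗ₜ[R] co ρ m b := by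
  classical
  let c := (bas R M).coord m
  have h1 := congrArg (fun z => TensorProduct.lid R (DA R M ⊗[R] B) (LinearMap.rTensor (DA R M ⊗[R] B) c z)) (h.assoc b)
  have hL : ∀ z : DA R M ⊗[R] B, TensorProduct.lid R (DA R M ⊗[R] B) (LinearMap.rTensor (DA R M ⊗[R] B) c
      (LinearMap.lTensor (DA R M) ρ.toLinearMap z)) = ρ (TensorProduct.lid R B (LinearMap.rTensor B c z)) := fun z => by
    induction z using TensorProduct.induction_on with
    | zero => simp
    | add x y hx hy => simp only [map_add, hx, hy]
    | tmul x y => simp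
  have hc : ∀ a : DA R M, TensorProduct.lid R (DA R M) (LinearMap.rTensor (DA R M) c
      (CoalgebraStruct.comul (R := R) a)) = c a • bas R M m := by
    intro a
    have : (TensorProduct.lid R (DA R M)).toLinearMap ∘ₗ LinearMap.rTensor (DA R M) c ∘ₗ CoalgebraStruct.comul =
        c.smulRight (bas R M m) := (bas R M).ext fun i => by
      simp only [LinearMap.comp_apply, LinearMap.smulRight_apply, bas_apply, MonoidAlgebra.comul_single,
        CommSemiring.comul_apply, TensorProduct.map_tmul, LinearEquiv.coe_coe, LinearMap.rTensor_tmul,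
        TensorProduct.lid_tmul]
      rcases eq_or_ne i m with rfl | hne
      · simp
      · have h0 : c (MonoidAlgebra.single i 1) = 0 := by rw [← bas_apply]; simp [c, hne]
        simp [h0]
    exact LinearMap.congr_fun this a
  have hR : ∀ z : DA R M ⊗[R] B, TensorProduct.lid R (DA R M ⊗[R] B) (LinearMap.rTensor (DA R M ⊗[R] B) c
      (TensorProduct.assoc R (DA R M) (DA R M) B (LinearMap.rTensor B (CoalgebraStruct.comul (R := R)) z))) =
      bas R M m ⊗ₜ[R] TensorProduct.lid R B (LinearMap.rTensor B c z) := fun z => by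
    induction z using TensorProduct.induction_on with
    | zero => simp
    | add x y hx hy => simp only [map_add, TensorProduct.tmul_add, hx, hy]
    | tmul a y =>
      rw [LinearMap.rTensor_tmul, LinearMap.rTensor_tmul, TensorProduct.lid_tmul, ← TensorProduct.smul_tmul, ← hc a]
      generalize CoalgebraStruct.comul (R := R) a = w
      induction w using TensorProduct.induction_on with
      | zero => simp
      | add p q hp hq => simp only [map_add, TensorProduct.add_tmul, hp, hq]
      | tmul p q => simp [TensorProduct.smul_tmul']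
  rw [hL, hR] at h1
  exact h1

theorem exists_finset_co (b : B) : ∃ F : Finset (Multiplicative M), ∀ G : Finset (Multiplicative M), F ⊆ G →
    ρ b = ∑ m ∈ G, bas R M m ⊗ₜ[R] co ρ m b := by
  classical
  obtain ⟨c, hc⟩ := TensorProduct.eq_repr_basis_left (bas R M) (ρ b)
  have hj : ∀ j, co ρ j b = c j := fun j => by
    rw [co_apply, ← hc, map_finsuppSum, map_finsuppSum]
    simp +contextual [Finsupp.sum, Finsupp.single_apply, eq_comm]
  refine ⟨c.support, fun G hG => ?_⟩
  conv_lhs => rw [← hc, Finsupp.sum]
  rw [← Finset.sum_subset hG fun j _ hj' => by rw [hj, Finsupp.notMem_support_iff.1 hj', TensorProduct.tmul_zero]]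
  exact Finset.sum_congr rfl fun j _ => by rw [hj]

theorem IsAct.exists_sum_co (h : IsAct ρ) (b : B) : ∃ F : Finset (Multiplicative M), ∑ m ∈ F, co ρ m b = b := by
  obtain ⟨F, hF⟩ := exists_finset_co (ρ := ρ) b
  refine ⟨F, ?_⟩
  conv_rhs => rw [← h.unit b, hF F subset_rfl, map_sum, map_sum]
  exact Finset.sum_congr rfl fun m _ => by simp [bas_apply]

theorem co_of_weight [DecidableEq (Multiplicative M)] {m j : Multiplicative M} {b : B}
    (hb : ρ b = bas R M m ⊗ₜ[R] b) : co ρ j b = if m = j then b else 0 := by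
  rw [co_apply, hb, LinearMap.rTensor_tmul, TensorProduct.lid_tmul]
  split_ifs with e
  · subst e; simp
  · simp [e]

theorem rho_mul {m n : Multiplicative M} {b c : B} (hb : ρ b = bas R M m ⊗ₜ[R] b) (hc : ρ c = bas R M n ⊗ₜ[R] c) :
    ρ (b * c) = bas R M (m * n) ⊗ₜ[R] (b * c) := by
  rw [map_mul, hb, hc, Algebra.TensorProduct.tmul_mul_tmul, bas_apply, bas_apply, bas_apply,
    MonoidAlgebra.single_mul_single, one_mul]

/-- For a free action the elements of each weight generate the unit ideal. -/
theorem IsAct.span_weight_eq_top (h : IsAct ρ) (hfree : IsFree ρ) (m : Multiplicative M) :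
    Ideal.span {b : B | ρ b = bas R M m ⊗ₜ[R] b} = ⊤ := by
  classical
  by_contra htop
  obtain ⟨p, hp, hmp⟩ := Ideal.exists_le_maximal _ htop
  let W : Multiplicative M → Prop := fun n => ∃ b : B, ρ b = bas R M n ⊗ₜ[R] b ∧ b ∉ p
  have hW1 : W 1 := ⟨1, by rw [map_one, bas_apply, ← MonoidAlgebra.one_def]; rfl, p.ne_top_iff_one.1 hp.ne_top⟩
  have hWmul : ∀ a b, W a → W b → W (a * b) := fun a b ⟨x, hx, hx'⟩ ⟨y, hy, hy'⟩ =>
    ⟨x * y, rho_mul hx hy, fun hxy => (hp.isPrime.mem_or_mem hxy).elim hx' hy'⟩
  let U : Subgroup (Multiplicative M) :=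
    { carrier := {n | W n ∧ W n⁻¹}
      one_mem' := ⟨hW1, by rwa [inv_one]⟩
      mul_mem' := fun {a b} ha hb => ⟨hWmul _ _ ha.1 hb.1, by rw [mul_inv]; exact hWmul _ _ ha.2 hb.2⟩
      inv_mem' := fun {a} ha => ⟨ha.2, by rw [inv_inv]; exact ha.1⟩ }
  have hmU : m ∉ U := fun hm => by
    obtain ⟨b, hb, hb'⟩ := hm.1
    exact hb' (hmp (Ideal.subset_span hb))
  let J : Ideal B :=
    { carrier := {b | ∀ n ∈ U, co ρ n b ∈ p}
      zero_mem' := fun n _ => by rw [map_zero]; exact p.zero_mem
      add_mem' := fun ha hb n hn => by rw [map_add]; exact p.add_mem (ha n hn) (hb n hn)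
      smul_mem' := fun c b hb n hn => by
        obtain ⟨F, hF⟩ := h.exists_sum_co b
        obtain ⟨F', hF'⟩ := h.exists_sum_co c
        show co ρ n (c * b) ∈ p
        rw [← hF, ← hF', Finset.sum_mul_sum, map_sum]
        refine sum_mem fun i _ => ?_
        rw [map_sum]
        refine sum_mem fun j _ => ?_
        rw [co_of_weight (rho_mul (h.rho_co i c) (h.rho_co j b))]
        split_ifs with e
        · by_cases hjU : j ∈ U
          · exact p.mul_mem_left _ (hb j hjU)
          by_contra hprod
          have hi : co ρ i c ∉ p := fun hh => hprod (p.mul_mem_right _ hh)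
          have hj : co ρ j b ∉ p := fun hh => hprod (p.mul_mem_left _ hh)
          refine hjU ⟨⟨_, h.rho_co j b, hj⟩, ?_⟩
          rw [show j⁻¹ = i * n⁻¹ by rw [← e, mul_inv, mul_inv_cancel_left]]
          exact hWmul _ _ ⟨_, h.rho_co i c, hi⟩ hn.2
        · exact p.zero_mem }
  have hJ : J ≠ ⊤ := by
    rw [Ideal.ne_top_iff_one]
    intro h1
    have h2 := h1 1 U.one_mem
    rw [co_of_weight (m := 1) (by rw [map_one, bas_apply, ← MonoidAlgebra.one_def]; rfl), if_pos rfl] at h2
    exact p.ne_top_iff_one.1 hp.ne_top h2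
  have hJw : ∀ n b, n ∉ U → co ρ n b ∈ J := by
    intro n b hn i hi
    rw [co_of_weight (h.rho_co n b), if_neg (fun e => hn (by rw [e]; exact hi))]
    exact p.zero_mem
  obtain ⟨q, hq, hJq⟩ := Ideal.exists_le_maximal J hJ
  let T := MonoidAlgebra (B ⧸ q) (Multiplicative M ⧸ U)
  let x : B →ₐ[R] T := ((MonoidAlgebra.singleOneAlgHom : (B ⧸ q) →ₐ[B ⧸ q] T).restrictScalars R).comp
    (Ideal.Quotient.mkₐ R q)
  let χ : Multiplicative M →* T := (MonoidAlgebra.of (B ⧸ q) (Multiplicative M ⧸ U)).comp (QuotientGroup.mk' U)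
  have heq : (Algebra.TensorProduct.lift (chr T χ) x fun _ _ => Commute.all _ _).comp ρ = x := by
    apply AlgHom.ext
    intro b
    obtain ⟨F, hF⟩ := h.exists_sum_co b
    obtain ⟨G, hG⟩ := exists_finset_co (ρ := ρ) b
    conv_rhs => rw [← hF, map_sum]
    conv_lhs => rw [← hF, map_sum]
    refine Finset.sum_congr rfl fun n _ => ?_
    rw [AlgHom.comp_apply, h.rho_co, Algebra.TensorProduct.lift_tmul, chr_bas]
    by_cases hn : n ∈ U
    · rw [show χ n = 1 from by
        show MonoidAlgebra.of (B ⧸ q) (Multiplicative M ⧸ U) (QuotientGroup.mk' U n) = 1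
        rw [QuotientGroup.mk'_apply, (QuotientGroup.eq_one_iff n).2 hn, map_one], one_mul]
    · rw [show x (co ρ n b) = 0 from by
        show (MonoidAlgebra.singleOneAlgHom : (B ⧸ q) →ₐ[B ⧸ q] T) (Ideal.Quotient.mk q (co ρ n b)) = 0
        rw [Ideal.Quotient.eq_zero_iff_mem.2 (hJq (hJw n b hn)), map_zero], mul_zero]
  have h3 := DFunLike.congr_fun (hfree T (chr T χ) x heq) (bas R M m)
  rw [chr_bas, AlgHom.comp_apply, bas_apply] at h3
  simp only [Bialgebra.counitAlgHom_apply, MonoidAlgebra.counit_single, CommSemiring.counit_apply, map_one] at h3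
  haveI : Nontrivial (B ⧸ q) := Ideal.Quotient.nontrivial_iff.2 hq.ne_top
  have h4 : (QuotientGroup.mk' U m) = 1 :=
    MonoidAlgebra.of_injective (R := B ⧸ q) (h3.trans (map_one (MonoidAlgebra.of (B ⧸ q) _)).symm)
  rw [QuotientGroup.mk'_apply, QuotientGroup.eq_one_iff] at h4
  exact hmU h4

/-- The graph map of a free action is surjective. -/
theorem IsAct.surjective_graph (h : IsAct ρ) (hfree : IsFree ρ) :
    Function.Surjective (Algebra.TensorProduct.lift ρ
      (Algebra.TensorProduct.includeRight : B →ₐ[R] DA R M ⊗[R] B) fun _ _ => Commute.all _ _) := by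
  classical
  let φ := Algebra.TensorProduct.lift ρ (Algebra.TensorProduct.includeRight : B →ₐ[R] DA R M ⊗[R] B)
    fun _ _ => Commute.all _ _
  intro z
  show z ∈ φ.range
  induction z using TensorProduct.induction_on with
  | zero => exact zero_mem _
  | add a b ha hb => exact add_mem ha hb
  | tmul a b =>
    have ha : a ∈ Submodule.span R (Set.range (bas R M)) := (bas R M).span_eq ▸ Submodule.mem_top
    induction ha using Submodule.span_induction generalizing b with
    | mem x hx =>
      obtain ⟨m, rfl⟩ := hx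
      suffices hs : ∀ c ∈ Ideal.span {c : B | ρ c = bas R M m ⊗ₜ[R] c}, ∀ b : B,
          bas R M m ⊗ₜ[R] (b * c) ∈ φ.range by
        simpa using hs 1 (by rw [h.span_weight_eq_top hfree m]; exact Submodule.mem_top) b
      intro c hc
      induction hc using Submodule.span_induction with
      | mem c hc =>
        intro b
        exact ⟨c ⊗ₜ[R] b, by
          show φ (c ⊗ₜ[R] b) = _
          rw [Algebra.TensorProduct.lift_tmul, show ρ c = _ from hc, Algebra.TensorProduct.includeRight_apply,
            Algebra.TensorProduct.tmul_mul_tmul, mul_one, mul_comm]⟩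
      | zero => intro b; rw [mul_zero, TensorProduct.tmul_zero]; exact zero_mem _
      | add c d _ _ hc hd => intro b; rw [mul_add, TensorProduct.tmul_add]; exact add_mem (hc b) (hd b)
      | smul r c _ hc => intro b; rw [smul_eq_mul, ← mul_assoc]; exact hc _
    | zero => rw [TensorProduct.zero_tmul]; exact zero_mem _
    | add x y _ _ hx hy => rw [TensorProduct.add_tmul]; exact add_mem (hx b) (hy b)
    | smul r x _ hx => rw [TensorProduct.smul_tmul]; exact hx _

end Groth.Agent.FreeAct
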